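import Groth.Agent.DvrDom.Generic

/-!
# Valuative criteria with discrete valuation rings of the residue fields at generic points
-/

set_option autoImplicit false
set_option backward.isDefEq.respectTransparency false
set_option linter.style.haveILetI false

universe u

open CategoryTheory CategoryTheory.Limits AlgebraicGeometry IsLocalRing

namespace Groth.Agent.DvrGeneric

open DvrDom

theorem exists_generic {X : Scheme.{u}} (x : X) :
    ∃ η : X, closure {η} ∈ irreducibleComponents (X : Type u) ∧ η ⤳ x := by
  obtain ⟨η, hη⟩ := QuasiSober.sober (α := (X : Type u)) isIrreducible_irreducibleComponent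
    (isClosed_irreducibleComponent (x := x))
  refine ⟨η, by rw [hη.def]; exact irreducibleComponent_mem_irreducibleComponents x, ?_⟩
  rw [specializes_iff_mem_closure, hη.def]
  exact mem_irreducibleComponent

/-- Lifting of discrete valuation rings at generic points suffices for universal closedness. -/
theorem universallyClosed_of_generic {X Y : Scheme.{u}} [IsLocallyNoetherian Y] (f : X ⟶ Y) [IsSeparated f]
    [LocallyOfFiniteType f] [QuasiCompact f]
    (H : ∀ (η : X), closure {η} ∈ irreducibleComponents (X : Type u) →
      ∀ (A : ValuationSubring (X.residueField η)), IsDiscreteValuationRing A →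
        ∀ y : Spec (CommRingCat.of A) ⟶ Y,
          Spec.map (CommRingCat.ofHom A.subtype) ≫ y = X.fromSpecResidueField η ≫ f →
          ∃ l : Spec (CommRingCat.of A) ⟶ X,
            l ≫ f = y ∧ Spec.map (CommRingCat.ofHom A.subtype) ≫ l = X.fromSpecResidueField η) :
    UniversallyClosed f := by
  have hL : ∀ x₀ y', Lifts f x₀ y' := fun x₀ y' => by
    obtain ⟨η, hη, hs⟩ := exists_generic x₀
    have hη' : Lifts f η y' := fun h V hmem hm =>
      exists_lift_of_dvr f η h V hmem hm fun W hW hWmem _ => H η hη W hW _
        ((subtype_centreMap W _ hWmem).trans (SpecMap_toResidue_fromSpecStalk f η h))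
    exact Lifts.of_generisation f hη' hs
  exact (isProper_of_lifts f hL).toUniversallyClosed

/-- Uniqueness of lifts of discrete valuation rings at generic points suffices for separatedness. -/
theorem isSeparated_of_generic {X S : Scheme.{u}} [IsLocallyNoetherian S] (f : X ⟶ S) [LocallyOfFiniteType f]
    (H : ∀ (η : X), closure {η} ∈ irreducibleComponents (X : Type u) →
      ∀ (A : ValuationSubring (X.residueField η)), IsDiscreteValuationRing A →
        ∀ l₁ l₂ : Spec (CommRingCat.of A) ⟶ X, l₁ ≫ f = l₂ ≫ f →
          Spec.map (CommRingCat.ofHom A.subtype) ≫ l₁ = X.fromSpecResidueField η →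
          Spec.map (CommRingCat.ofHom A.subtype) ≫ l₂ = X.fromSpecResidueField η → l₁ = l₂) :
    IsSeparated f := by
  haveI : IsLocallyNoetherian X := LocallyOfFiniteType.isLocallyNoetherian f
  haveI : IsLocallyNoetherian (pullback f f) := LocallyOfFiniteType.isLocallyNoetherian (pullback.fst f f)
  let Δ := pullback.diagonal f
  haveI : UniversallyClosed Δ := universallyClosed_of_generic Δ fun η hη A hA y hy => by
    have h1 : Spec.map (CommRingCat.ofHom A.subtype) ≫ y ≫ pullback.fst f f = X.fromSpecResidueField η := by
      rw [← Category.assoc, hy, Category.assoc, pullback.diagonal_fst, Category.comp_id]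
    have h2 : Spec.map (CommRingCat.ofHom A.subtype) ≫ y ≫ pullback.snd f f = X.fromSpecResidueField η := by
      rw [← Category.assoc, hy, Category.assoc, pullback.diagonal_snd, Category.comp_id]
    have e := H η hη A hA _ _ (by rw [Category.assoc, Category.assoc, pullback.condition]) h1 h2
    refine ⟨y ≫ pullback.fst f f, ?_, h1⟩
    apply pullback.hom_ext
    · rw [Category.assoc, pullback.diagonal_fst, Category.comp_id]
    · rw [Category.assoc, pullback.diagonal_snd, Category.comp_id, e]
  exact ⟨.of_isPreimmersion _ Δ.isClosedMap.isClosed_range⟩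

/-- uniqueness of lifts along separated morphisms -/
theorem eq_of_isSeparated {X S : Scheme.{u}} (f : X ⟶ S) [IsSeparated f] {K : Type u} [Field K] (A : ValuationSubring K)
    (x : Spec (CommRingCat.of K) ⟶ X) (l₁ l₂ : Spec (CommRingCat.of A) ⟶ X) (h : l₁ ≫ f = l₂ ≫ f)
    (h1 : Spec.map (CommRingCat.ofHom A.subtype) ≫ l₁ = x) (h2 : Spec.map (CommRingCat.ofHom A.subtype) ≫ l₂ = x) :
    l₁ = l₂ := by
  let S' : ValuativeCommSq f := ⟨A, K, x, l₁ ≫ f, ⟨by rw [← h1, Category.assoc]; rfl⟩⟩
  exact congrArg CommSq.LiftStruct.l
    ((IsSeparated.valuativeCriterion f S').elim ⟨l₁, h1, rfl⟩ ⟨l₂, h2, h.symm⟩)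

/-- existence of lifts along universally closed morphisms -/
theorem exists_of_universallyClosed {X S : Scheme.{u}} (f : X ⟶ S) [UniversallyClosed f] {K : Type u} [Field K]
    (A : ValuationSubring K) (x : Spec (CommRingCat.of K) ⟶ X) (y : Spec (CommRingCat.of A) ⟶ S)
    (h : Spec.map (CommRingCat.ofHom A.subtype) ≫ y = x ≫ f) :
    ∃ l : Spec (CommRingCat.of A) ⟶ X, l ≫ f = y ∧ Spec.map (CommRingCat.ofHom A.subtype) ≫ l = x := by
  let S' : ValuativeCommSq f := ⟨A, K, x, y, ⟨h.symm⟩⟩
  have hE : ValuativeCriterion.Existence f :=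
    (show (ValuativeCriterion.Existence ⊓ @QuasiCompact : MorphismProperty Scheme.{u}) f by
      rw [← UniversallyClosed.eq_valuativeCriterion]; assumption).1
  obtain ⟨⟨l, h1, h2⟩⟩ := (hE S').exists_lift
  exact ⟨l, h2, h1⟩

end Groth.Agent.DvrGeneric
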